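import Groth.Agent.MorLib.FlatBC
import Groth.Agent.QCoh.Stalk
import Groth.Agent.QCoh.LocFree
import Mathlib.RingTheory.Flat.Equalizer
import Mathlib.RingTheory.LocalRing.Module

/-! The free locus of a module flat over the base commutes with base change. -/

set_option backward.isDefEq.respectTransparency false
set_option backward.isDefEq.respectTransparency.types false
set_option linter.style.haveILetI false
set_option autoImplicit false

universe u

open CategoryTheory CategoryTheory.Limits AlgebraicGeometry TopologicalSpace Opposite TensorProduct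

namespace Groth.Agent.FreeBC

open MorLib

theorem injective_field {O L : Type u} [CommRing O] [CommRing L] [Algebra O L] [IsLocalRing O] [IsLocalRing L]
    [IsLocalHom (algebraMap O L)] {K N : Type u} [AddCommGroup K] [Module O K] [AddCommGroup N] [Module O N]
    (f : K →ₗ[O] N) (h : Function.Injective (f.lTensor (IsLocalRing.ResidueField L))) :
    Function.Injective (f.lTensor (IsLocalRing.ResidueField O)) := by
  let φ : IsLocalRing.ResidueField O →+* IsLocalRing.ResidueField L :=
    algebraMap (IsLocalRing.ResidueField O) (IsLocalRing.ResidueField L)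
  let i : IsLocalRing.ResidueField O →ₗ[O] IsLocalRing.ResidueField L :=
    (Algebra.linearMap (IsLocalRing.ResidueField O) (IsLocalRing.ResidueField L)).restrictScalars O
  obtain ⟨r, hr⟩ := (Algebra.linearMap (IsLocalRing.ResidueField O) (IsLocalRing.ResidueField L)).exists_leftInverse_of_injective
    (LinearMap.ker_eq_bot.2 φ.injective)
  have hi : Function.Injective (i.rTensor K) := by
    refine Function.LeftInverse.injective (g := (r.restrictScalars O).rTensor K) fun z => ?_
    induction z using TensorProduct.induction_on with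
    | zero => simp
    | add a b ha hb => simp only [map_add, ha, hb]
    | tmul a k =>
      rw [LinearMap.rTensor_tmul, LinearMap.rTensor_tmul]
      exact congrArg (· ⊗ₜ[O] k) (LinearMap.congr_fun hr a)
  have hcomm : ∀ z, f.lTensor (IsLocalRing.ResidueField L) (i.rTensor K z) =
      i.rTensor N (f.lTensor (IsLocalRing.ResidueField O) z) := fun z => by
    induction z using TensorProduct.induction_on with
    | zero => simp
    | add a b ha hb => simp only [map_add, ha, hb]
    | tmul a k => simp
  intro a b hab
  exact hi (h (by rw [hcomm, hcomm, hab]))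

theorem free_core {R A R' B' L O N : Type u} [CommRing R] [CommRing A] [CommRing R'] [CommRing B']
    [CommRing L] [CommRing O] [Algebra R A] [Algebra R R'] [Algebra A B'] [Algebra R' B'] [Algebra R B']
    [IsScalarTower R A B'] [IsScalarTower R R' B'] [Algebra.IsPushout R R' A B']
    [Algebra B' L] [Algebra A L] [IsScalarTower A B' L]
    [Module.Flat B' L] [Algebra A O] (S : Submonoid A) [IsLocalization S O] [Algebra O L]
    [IsScalarTower A O L] [IsLocalRing O] [IsLocalRing L] [IsLocalHom (algebraMap O L)]
    [AddCommGroup N] [Module O N] [Module A N] [IsScalarTower A O N] [Module R N] [IsScalarTower R A N]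
    [Module.Flat R N] [Module.FinitePresentation O N] [Module.Free L (L ⊗[O] N)] : Module.Free O N := by
  obtain ⟨n, π, hπ⟩ := Module.Finite.exists_fin' O N
  let K := LinearMap.ker π
  haveI : Module.Finite O K := Module.Finite.iff_fg.2 (Module.FinitePresentation.fg_ker π hπ)
  let j : K →ₗ[O] (Fin n → O) := K.subtype
  have hex : Function.Exact j π := LinearMap.exact_subtype_ker_map π
  refine Module.free_of_lTensor_residueField_injective j π hπ hex (injective_field (L := L) j ?_)
  -- injectivity after tensoring with `L`
  letI : Module R K := Module.compHom K ((algebraMap A O).comp (algebraMap R A))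
  letI : Module R (Fin n → O) := Module.compHom (Fin n → O) ((algebraMap A O).comp (algebraMap R A))
  haveI : IsScalarTower R A K := .of_algebraMap_smul fun a x => by
    show algebraMap R A a • x = (algebraMap A O) (algebraMap R A a) • x
    exact (algebraMap_smul O (algebraMap R A a) x).symm
  haveI : IsScalarTower R A (Fin n → O) := .of_algebraMap_smul fun a x => by
    show algebraMap R A a • x = (algebraMap A O) (algebraMap R A a) • x
    exact (algebraMap_smul O (algebraMap R A a) x).symm
  let jA : K →ₗ[A] (Fin n → O) := j.restrictScalars A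
  let πA : (Fin n → O) →ₗ[A] N := π.restrictScalars A
  have hR : Function.Injective ((jA.restrictScalars R).lTensor R') :=
    LinearMap.lTensor_injective_of_exact_of_flat (πA.restrictScalars R) hπ (jA.restrictScalars R)
      Subtype.val_injective hex R'
  have hA : Function.Injective (jA.lTensor B') := by
    haveI hpo : Algebra.IsPushout R A R' B' := Algebra.IsPushout.symm ‹_›
    let hb : IsBaseChange A (IsScalarTower.toAlgHom R R' B').toLinearMap := hpo.out
    let c : ∀ (P : Type u) [AddCommGroup P] [Module A P] [Module R P] [IsScalarTower R A P],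
        B' ⊗[A] P ≃+ R' ⊗[R] P := fun P _ _ _ _ =>
      ((TensorProduct.comm A B' P).toAddEquiv.trans (hb.tensorEquiv P).toAddEquiv).trans
        (TensorProduct.comm R P R').toAddEquiv
    have hc : ∀ z : R' ⊗[R] K, (jA.lTensor B') ((c K).symm z) =
        (c (Fin n → O)).symm ((jA.restrictScalars R).lTensor R' z) := fun z => by
      induction z using TensorProduct.induction_on with
      | zero => simp
      | add a b ha hb => simp only [map_add, ha, hb]
      | tmul a k =>
        simp [c, IsBaseChange.tensorEquiv, IsBaseChange.equiv_tmul]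
    intro a b hab
    obtain ⟨a, rfl⟩ := (c K).symm.surjective a
    obtain ⟨b, rfl⟩ := (c K).symm.surjective b
    rw [hc, hc] at hab
    rw [hR ((c (Fin n → O)).symm.injective hab)]
  have hL : Function.Injective (jA.lTensor L) := by
    have h1 : Function.Injective ((AlgebraTensorModule.lTensor B' B' jA).lTensor L) :=
      Module.Flat.lTensor_preserves_injective_linearMap _ hA
    have hc : ∀ z, (jA.lTensor L) (AlgebraTensorModule.cancelBaseChange A B' L L K z) =
        AlgebraTensorModule.cancelBaseChange A B' L L (Fin n → O)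
          ((AlgebraTensorModule.lTensor B' B' jA).lTensor L z) := fun z => by
      induction z using TensorProduct.induction_on with
      | zero => simp
      | add a b ha hb => simp only [map_add, ha, hb]
      | tmul l w =>
        induction w using TensorProduct.induction_on with
        | zero => simp
        | add a b ha hb => simp only [TensorProduct.tmul_add, map_add, ha, hb]
        | tmul b k => simp
    intro a b hab
    obtain ⟨a, rfl⟩ := (AlgebraTensorModule.cancelBaseChange A B' L L K).surjective a
    obtain ⟨b, rfl⟩ := (AlgebraTensorModule.cancelBaseChange A B' L L K).surjective b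
    rw [hc, hc] at hab
    rw [h1 ((AlgebraTensorModule.cancelBaseChange A B' L L (Fin n → O)).injective hab)]
  have hO : Function.Injective (AlgebraTensorModule.lTensor L L j) := by
    haveI := IsLocalization.tensorProduct_compatibleSMul S O L K
    haveI := IsLocalization.tensorProduct_compatibleSMul S O L (Fin n → O)
    have hc : ∀ z, equivOfCompatibleSMul A O L L (Fin n → O) (AlgebraTensorModule.lTensor L L j z) =
        jA.lTensor L (equivOfCompatibleSMul A O L L K z) := fun z => by
      induction z using TensorProduct.induction_on with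
      | zero => simp
      | add a b ha hb => simp only [map_add, ha, hb]
      | tmul l k => rfl
    intro a b hab
    apply (equivOfCompatibleSMul A O L L K).injective
    apply hL
    rw [← hc, ← hc, hab]
  -- tensor with the residue field of `L`
  have hflat : Function.Injective ((AlgebraTensorModule.lTensor L L j).lTensor (IsLocalRing.ResidueField L)) :=
    LinearMap.lTensor_injective_of_exact_of_flat (AlgebraTensorModule.lTensor L L π)
      (LinearMap.lTensor_surjective L hπ) (AlgebraTensorModule.lTensor L L j) hO
      (lTensor_exact L hex hπ) _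
  have hc : ∀ z, j.lTensor (IsLocalRing.ResidueField L)
        (AlgebraTensorModule.cancelBaseChange O L L (IsLocalRing.ResidueField L) K z) =
      AlgebraTensorModule.cancelBaseChange O L L (IsLocalRing.ResidueField L) (Fin n → O)
        ((AlgebraTensorModule.lTensor L L j).lTensor (IsLocalRing.ResidueField L) z) := fun z => by
    induction z using TensorProduct.induction_on with
    | zero => simp
    | add a b ha hb => simp only [map_add, ha, hb]
    | tmul l w =>
      induction w using TensorProduct.induction_on with
      | zero => simp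
      | add a b ha hb => simp only [TensorProduct.tmul_add, map_add, ha, hb]
      | tmul b k => simp
  intro a b hab
  obtain ⟨a, rfl⟩ := (AlgebraTensorModule.cancelBaseChange O L L (IsLocalRing.ResidueField L) K).surjective a
  obtain ⟨b, rfl⟩ := (AlgebraTensorModule.cancelBaseChange O L L (IsLocalRing.ResidueField L) K).surjective b
  rw [hc, hc] at hab
  rw [hflat ((AlgebraTensorModule.cancelBaseChange O L L (IsLocalRing.ResidueField L) (Fin n → O)).injective hab)]

open Groth.Agent.QCoh in
theorem fp_stalk {X : Scheme.{u}} {M : X.Modules} (hM : Coh.IsQCoh M) (hfp : CohB1.IsFP M) (x : X) :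
    Module.FinitePresentation (X.presheaf.stalk x) (M.presheaf.stalk x) := by
  obtain ⟨_, ⟨U, hU, rfl⟩, hx, -⟩ :=
    X.isBasis_affineOpens.exists_subset_of_mem_open (Set.mem_univ x) isOpen_univ
  have hU' : IsAffineOpen U := hU
  haveI := finitePresentation_of_isFP hfp hU'
  letI := stalkAlg (X := X) hx
  letI := stalkModule M hx
  haveI := isScalarTower_stalk M hx
  haveI := isLocalization_stalk' hU' hx
  haveI := isLocalizedModule_germLin hM hU' hx
  exact FinitePresentation.of_isBaseChange (germLin M hx)
    ((isLocalizedModule_iff_isBaseChange (hU'.primeIdealOf ⟨x, hx⟩).asIdeal.primeCompl (X.presheaf.stalk x) _).mp inferInstance)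

theorem free_stalk_pullback_iff {X S X' S' : Scheme.{u}} (f : X ⟶ S) (f' : X' ⟶ S') (g' : X' ⟶ X)
    (g : S' ⟶ S) (hc : IsPullback g' f' f g) (F : X.Modules) (hF : CohB1.IsFP F) (x' : X')
    (h : FlatMod.IsFlatOverAt f F (g' x')) :
    Module.Free (X'.presheaf.stalk x') (((Scheme.Modules.pullback g').obj F).presheaf.stalk x') ↔
      Module.Free (X.presheaf.stalk (g' x')) (F.presheaf.stalk (g' x')) := by
  obtain ⟨U, hU, hxU, -⟩ := exists_isAffineOpen_mem_and_subset (x := f (g' x')) (U := ⊤) trivial
  obtain ⟨V, hV, hxV, hVU'⟩ := exists_isAffineOpen_mem_and_subset (x := g' x') (U := f ⁻¹ᵁ U) hxU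
  have hVU : V ≤ f ⁻¹ᵁ U := hVU'
  have hyU : f' x' ∈ g ⁻¹ᵁ U := by
    show g (f' x') ∈ U
    rw [← Scheme.Hom.comp_apply, ← hc.w]; exact hxU
  obtain ⟨U', hU', hyU', hU'U'⟩ := exists_isAffineOpen_mem_and_subset (x := f' x') (U := g ⁻¹ᵁ U) hyU
  have hU'U : U' ≤ g ⁻¹ᵁ U := hU'U'
  let W : X'.Opens := g' ⁻¹ᵁ V ⊓ f' ⁻¹ᵁ U'
  have hxW : x' ∈ W := ⟨hxV, hyU'⟩
  have hW : IsAffineOpen W := by
    haveI : IsAffine _ := hU
    haveI : IsAffine _ := hU'
    haveI : IsAffine _ := hV
    exact .of_isIso (Scheme.Hom.isPullback_resLE hc hU'U hVU (UY := W) rfl).isoPullback.hom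
  have hpo := (isIso_pushoutSection_iff hc hU'U hVU (UY := W) rfl).mp
    (isIso_pushoutSection_of_isAffineOpen hc hU'U hVU rfl hU hU' hV)
  letI : Algebra Γ(S, U) Γ(X, V) := (f.appLE U V hVU).hom.toAlgebra
  letI : Algebra Γ(S, U) Γ(S', U') := (g.appLE U U' hU'U).hom.toAlgebra
  letI : Algebra Γ(X, V) Γ(X', W) := (g'.appLE V W inf_le_left).hom.toAlgebra
  letI : Algebra Γ(S', U') Γ(X', W) := (f'.appLE U' W inf_le_right).hom.toAlgebra
  letI : Algebra Γ(S, U) Γ(X', W) := (f.appLE U V hVU ≫ g'.appLE V W inf_le_left).hom.toAlgebra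
  haveI : IsScalarTower Γ(S, U) Γ(X, V) Γ(X', W) := .of_algebraMap_eq fun _ => rfl
  haveI : IsScalarTower Γ(S, U) Γ(S', U') Γ(X', W) := .of_algebraMap_eq fun r => congr($(hpo.w).hom r)
  haveI : Algebra.IsPushout Γ(S, U) Γ(S', U') Γ(X, V) Γ(X', W) :=
    CommRingCat.isPushout_iff_isPushout.mp hpo.flip
  letI : Algebra Γ(X', W) (X'.presheaf.stalk x') := (X'.presheaf.germ W x' hxW).hom.toAlgebra
  letI : Algebra Γ(S', U') (X'.presheaf.stalk x') :=
    (f'.appLE U' W inf_le_right ≫ X'.presheaf.germ W x' hxW).hom.toAlgebra
  letI : Algebra Γ(X, V) (X'.presheaf.stalk x') :=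
    (g'.appLE V W inf_le_left ≫ X'.presheaf.germ W x' hxW).hom.toAlgebra
  haveI : IsScalarTower Γ(S', U') Γ(X', W) (X'.presheaf.stalk x') := .of_algebraMap_eq fun _ => rfl
  haveI : IsScalarTower Γ(X, V) Γ(X', W) (X'.presheaf.stalk x') := .of_algebraMap_eq fun _ => rfl
  haveI : Module.Flat Γ(X', W) (X'.presheaf.stalk x') :=
    haveI := hW.isLocalization_stalk ⟨x', hxW⟩
    IsLocalization.flat (X'.presheaf.stalk x') (hW.primeIdealOf ⟨x', hxW⟩).asIdeal.primeCompl
  letI : Algebra Γ(X, V) (X.presheaf.stalk (g' x')) := (X.presheaf.germ V (g' x') hxV).hom.toAlgebra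
  haveI := hV.isLocalization_stalk ⟨g' x', hxV⟩
  letI : Algebra (X.presheaf.stalk (g' x')) (X'.presheaf.stalk x') := (g'.stalkMap x').hom.toAlgebra
  haveI : IsScalarTower Γ(X, V) (X.presheaf.stalk (g' x')) (X'.presheaf.stalk x') :=
    .of_algebraMap_eq fun a => by
      show X'.presheaf.germ W x' hxW (g'.appLE V W inf_le_left a) =
        g'.stalkMap x' (X.presheaf.germ V (g' x') hxV a)
      rw [Scheme.Hom.germ_stalkMap_apply g' V x' hxV a]
      exact X'.presheaf.germ_res_apply (homOfLE inf_le_left) x' hxW _
  letI : Module Γ(X, V) (F.presheaf.stalk (g' x')) :=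
    Module.compHom _ (X.presheaf.germ V (g' x') hxV).hom
  haveI : IsScalarTower Γ(X, V) (X.presheaf.stalk (g' x')) (F.presheaf.stalk (g' x')) :=
    .of_algebraMap_smul fun _ _ => rfl
  letI : Module Γ(S, U) (F.presheaf.stalk (g' x')) :=
    Module.compHom _ ((f.appLE U V hVU) ≫ X.presheaf.germ V (g' x') hxV).hom
  haveI : IsScalarTower Γ(S, U) Γ(X, V) (F.presheaf.stalk (g' x')) :=
    .of_algebraMap_smul fun _ _ => rfl
  haveI : Module.Flat Γ(S, U) (F.presheaf.stalk (g' x')) :=
    (QCoh.isFlatOverAt_iff f hU hVU hxV).mp h
  haveI := fp_stalk (QCoh.isQCoh_of_isFP hF) hF (g' x')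
  haveI : IsLocalHom (algebraMap (X.presheaf.stalk (g' x')) (X'.presheaf.stalk x')) :=
    inferInstanceAs (IsLocalHom (g'.stalkMap x').hom)
  let e := ((KFlatLib.stalkPullbackIso g' x').app F).toLinearEquiv
  constructor
  · intro hfree
    haveI : Module.Free (X'.presheaf.stalk x')
        (X'.presheaf.stalk x' ⊗[X.presheaf.stalk (g' x')] F.presheaf.stalk (g' x')) :=
      Module.Free.of_equiv' hfree e
    exact free_core (R := Γ(S, U)) (A := Γ(X, V)) (R' := Γ(S', U')) (B' := Γ(X', W)) (L := X'.presheaf.stalk x')
      (hV.primeIdealOf ⟨g' x', hxV⟩).asIdeal.primeCompl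
  · intro hfree
    haveI : Module.Free (X'.presheaf.stalk x')
        (X'.presheaf.stalk x' ⊗[X.presheaf.stalk (g' x')] F.presheaf.stalk (g' x')) := inferInstance
    exact Module.Free.of_equiv' ‹_› e.symm

end Groth.Agent.FreeBC
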